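import Cfsg.Agent.H282.LT.AltA

/-!
# S2927, alternating socle: `O₂(C_G(z))` is abelian when `z` has at least 5 two-cycles
-/

set_option autoImplicit false
set_option linter.unusedSectionVars false
open Cfsg Subgroup
open Cfsg.Agent.H229 Cfsg.Agent.H230 Cfsg.Agent.H252.LT

namespace Cfsg.Agent.H282.LT

open Equiv Equiv.Perm
open scoped commutatorElement Pointwise

variable {G : Type*} [Group G] [Finite G] {n : ℕ} {ψ : G →* Perm (Fin n)}

theorem card_bl_le {α : Type*} [DecidableEq α] (z : Perm α) (i : α) : (bl z i).card ≤ 2 := Finset.card_le_two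

/-- **blocks**: `O₂(C_G(z))` fixes every block of `z`, if there are at least 5 blocks. -/
theorem Rep.pres_blocks (h : Rep ψ) {z : G} (hz : z ^ 2 = 1)
    (hs : 10 ≤ (Finset.univ.filter fun i => ψ z i ≠ i).card) {u : G}
    (hu : u ∈ pCoreOf 2 (centralizer ({z} : Set G))) : ∀ i, ψ z i ≠ i → ψ u i ∈ bl (ψ z) i := by
  classical
  set X := Finset.univ.filter fun i => ψ z i ≠ i with hX
  have memX : ∀ i, i ∈ X ↔ ψ z i ≠ i := fun i => by rw [hX, Finset.mem_filter]; simp
  have hζ := Rep.sq ψ hz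
  have hζζ : ∀ l, ψ z (ψ z l) = l := fun l => congrArg (fun f : Perm (Fin n) => f l) hζ
  by_contra hcon
  obtain ⟨k₀, hk₀⟩ := (isPGroup_pCoreOf 2 (centralizer ({z} : Set G))) ⟨_, hu⟩
  have hk₀' : u ^ 2 ^ k₀ = 1 := congrArg Subtype.val hk₀
  have hex : ∃ k : ℕ, ∀ i, ψ z i ≠ i → ψ (u ^ 2 ^ k) i ∈ bl (ψ z) i := by
    refine ⟨k₀, fun i _ => ?_⟩
    rw [hk₀', map_one]
    exact self_mem_bl _ _
  have hmin := Nat.find_spec hex
  have hk0 : Nat.find hex ≠ 0 := by
    intro h0
    rw [h0, pow_zero, pow_one] at hmin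
    exact hcon hmin
  obtain ⟨k, hk⟩ := Nat.exists_eq_succ_of_ne_zero hk0
  have hnot := Nat.find_min hex (m := k) (by omega)
  rw [hk] at hmin
  set v := u ^ 2 ^ k with hv
  have hvO : v ∈ pCoreOf 2 (centralizer ({z} : Set G)) := pow_mem hu _
  have hvc : ψ v * ψ z = ψ z * ψ v := h.mem_cent.1 (H229.pCoreOf_le _ _ hvO)
  have hvv : u ^ 2 ^ k.succ = v * v := by rw [hv, pow_succ, pow_mul, pow_two]
  rw [hvv] at hmin
  have hv2 : ∀ i, ψ z i ≠ i → bl (ψ z) (ψ v (ψ v i)) = bl (ψ z) i := by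
    intro i hi
    apply bl_eq hζ
    have := hmin i hi
    rwa [map_mul, Perm.mul_apply] at this
  have hmv : ∀ i, ψ z i ≠ i → ψ z (ψ v i) ≠ ψ v i := by
    intro i hi h1
    have h2 := congrArg (fun f : Perm (Fin n) => f i) hvc
    simp only [Perm.mul_apply, h1] at h2
    exact hi ((ψ v).injective h2)
  -- `v` is injective on blocks
  have hinj : ∀ i j, ψ v i ∈ bl (ψ z) (ψ v j) → i ∈ bl (ψ z) j := by
    intro i j h1
    rcases mem_bl.1 h1 with h2 | h2
    · rw [(ψ v).injective h2]; exact self_mem_bl _ _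
    · have h3 := congrArg (fun f : Perm (Fin n) => f j) hvc
      simp only [Perm.mul_apply] at h3
      rw [← h3] at h2
      rw [(ψ v).injective h2]
      exact mem_bl.2 (Or.inr rfl)
  -- `v i ∈ bl j → v j ∈ bl i`
  have hsw : ∀ i j, ψ z i ≠ i → ψ z j ≠ j → ψ v i ∈ bl (ψ z) j → i ∈ bl (ψ z) (ψ v j) := by
    intro i j hi hj h1
    have h2 := smul_mem_bl hvc h1
    rw [← bl_eq hζ h2] 
    rw [hv2 i hi]
    exact self_mem_bl _ _
  by_cases hfix : ∃ e, ψ z e ≠ e ∧ ψ v e ∈ bl (ψ z) e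
  · obtain ⟨e, he1, he2⟩ := hfix
    push Not at hnot
    obtain ⟨i, hi1, hi2⟩ := hnot
    have hie : e ∉ bl (ψ z) i := by
      intro h1
      apply hi2
      have h2 := smul_mem_bl hvc h1
      have h3 := bl_eq hζ h2
      rw [← bl_eq hζ h1, ← bl_eq hζ he2, h3]
      exact self_mem_bl _ _
    have hje : e ∉ bl (ψ z) (ψ v i) := by
      intro h1
      apply hie
      have h2 := smul_mem_bl hvc h1
      rw [← hv2 i hi1, ← bl_eq hζ h2]
      exact bl_symm hζ he2
    obtain ⟨c, hc1, hc2, hc3, hc4, hc5, -⟩ := exists_dcyc hζ hi1 (hmv i hi1) he1 hi2 hie hje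
    obtain ⟨m, hm⟩ := comm_pow h hvO hc1 hc2
    refine comm_fix (X := Finset (Fin n)) (u := ψ v) (c := c) (I := bl (ψ z) i) (J := bl (ψ z) (ψ v i))
      (E := bl (ψ z) e) ?_ ?_ ?_ (smul_bl hvc i) ?_ ?_ ?_ hm
    · rw [smul_bl hc1, hc3]
    · rw [smul_bl hc1, hc4]
    · rw [smul_bl hc1, hc5]
    · rw [smul_bl hvc, hv2 i hi1]
    · rw [smul_bl hvc, bl_eq hζ he2]
    · intro h1
      exact hie ((bl_eq_iff hζ).1 h1.symm)
  · push Not at hfix
    obtain ⟨i, hiX⟩ : X.Nonempty := Finset.card_pos.1 (by omega)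
    have hi := (memX i).1 hiX
    have c2 : ∀ x, (bl (ψ z) x).card ≤ 2 := card_bl_le _
    obtain ⟨k', hkX, hk'⟩ := Finset.exists_mem_notMem_of_card_lt_card
      (s := bl (ψ z) i ∪ bl (ψ z) (ψ v i)) (t := X) (by
        have := Finset.card_union_le (bl (ψ z) i) (bl (ψ z) (ψ v i))
        have := c2 i
        have := c2 (ψ v i)
        omega)
    have hk2 := (memX k').1 hkX
    rw [Finset.mem_union, not_or] at hk'
    obtain ⟨e, heX, he'⟩ := Finset.exists_mem_notMem_of_card_lt_card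
      (s := bl (ψ z) i ∪ bl (ψ z) (ψ v i) ∪ (bl (ψ z) k' ∪ bl (ψ z) (ψ v k'))) (t := X) (by
        have h1 := Finset.card_union_le (bl (ψ z) i) (bl (ψ z) (ψ v i))
        have h2 := Finset.card_union_le (bl (ψ z) k') (bl (ψ z) (ψ v k'))
        have h3 := Finset.card_union_le (bl (ψ z) i ∪ bl (ψ z) (ψ v i)) (bl (ψ z) k' ∪ bl (ψ z) (ψ v k'))
        have := c2 i
        have := c2 (ψ v i)
        have := c2 k'
        have := c2 (ψ v k')
        omega)
    have he2 := (memX e).1 heX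
    simp only [Finset.mem_union, not_or] at he'
    obtain ⟨⟨e1, e2⟩, e3, e4⟩ := he'
    obtain ⟨c, hc1, hc2, hc3, hc4, hc5, hc6⟩ := exists_dcyc hζ hi hk2 he2 hk'.1 e1 e3
    obtain ⟨m, hm⟩ := comm_pow h hvO hc1 hc2
    have f1 : c (ψ v i) = ψ v i := by
      refine hc6 _ (hfix i hi) (fun h1 => hk'.2 (bl_symm hζ h1)) (fun h1 => e2 (bl_symm hζ h1))
    have f2 : c (ψ v k') = ψ v k' := by
      refine hc6 _ (fun h1 => hk'.2 (hsw k' i hk2 hi h1)) (hfix k' hk2) (fun h1 => e4 (bl_symm hζ h1))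
    have f3 : c (ψ v e) = ψ v e := by
      refine hc6 _ (fun h1 => e2 (hsw e i he2 hi h1)) (fun h1 => e4 (hsw e k' he2 hk2 h1)) (hfix e he2)
    refine comm_free (X := Finset (Fin n)) (u := ψ v) (c := c) (I := bl (ψ z) i) (K := bl (ψ z) k')
      (E := bl (ψ z) e) (I' := bl (ψ z) (ψ v i)) (K' := bl (ψ z) (ψ v k')) (E' := bl (ψ z) (ψ v e))
      ?_ ?_ ?_ (smul_bl hvc i) (smul_bl hvc k') (smul_bl hvc e) ?_ ?_ ?_ ?_ ?_ ?_ ?_ hm
    · rw [smul_bl hc1, hc3]
    · rw [smul_bl hc1, hc4]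
    · rw [smul_bl hc1, hc5]
    · rw [smul_bl hvc, hv2 i hi]
    · rw [smul_bl hvc, hv2 k' hk2]
    · rw [smul_bl hvc, hv2 e he2]
    · rw [smul_bl hc1, f1]
    · rw [smul_bl hc1, f2]
    · rw [smul_bl hc1, f3]
    · intro h1
      exact e1 ((bl_eq_iff hζ).1 h1)

/-- two permutations commuting with `z`, preserving the blocks, commute if `z` has at most two fixed points -/
theorem Rep.comm_of_blocks (h : Rep ψ) {z u v : G}
    (hF : (Finset.univ.filter fun i => ψ z i = i).card ≤ 2)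
    (huc : u ∈ centralizer ({z} : Set G)) (hvc : v ∈ centralizer ({z} : Set G))
    (hu : ∀ i, ψ z i ≠ i → ψ u i ∈ bl (ψ z) i) (hv : ∀ i, ψ z i ≠ i → ψ v i ∈ bl (ψ z) i) : u * v = v * u := by
  classical
  rw [h.mem_cent] at huc hvc
  have hu' : ∀ l, ψ u (ψ z l) = ψ z (ψ u l) := fun l => congrArg (fun f : Perm (Fin n) => f l) huc
  have hv' : ∀ l, ψ v (ψ z l) = ψ z (ψ v l) := fun l => congrArg (fun f : Perm (Fin n) => f l) hvc
  have h3 : ∀ x y w, ψ z x = x → ψ z y = y → ψ z w = w → x ≠ y → w = x ∨ w = y := by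
    intro x y w hx hy hw hxy
    by_contra hc
    rw [not_or] at hc
    have h4 : ({x, y, w} : Finset (Fin n)) ⊆ Finset.univ.filter fun i => ψ z i = i := by
      intro a ha
      simp only [Finset.mem_insert, Finset.mem_singleton] at ha
      rw [Finset.mem_filter]
      refine ⟨Finset.mem_univ _, ?_⟩
      rcases ha with rfl | rfl | rfl <;> assumption
    have h5 := Finset.card_le_card h4
    rw [Finset.card_insert_of_notMem, Finset.card_insert_of_notMem, Finset.card_singleton] at h5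
    · omega
    · rw [Finset.mem_singleton]; exact Ne.symm hc.2
    · simp only [Finset.mem_insert, Finset.mem_singleton, not_or]
      exact ⟨hxy, Ne.symm hc.1⟩
  apply h.inj
  rw [map_mul, map_mul]
  ext i
  rw [Perm.mul_apply, Perm.mul_apply]
  congr 1
  by_cases hi : ψ z i = i
  · have hui : ψ z (ψ u i) = ψ u i := by rw [← hu', hi]
    have hvi : ψ z (ψ v i) = ψ v i := by rw [← hv', hi]
    have huvi : ψ z (ψ u (ψ v i)) = ψ u (ψ v i) := by rw [← hu', hvi]
    have hvui : ψ z (ψ v (ψ u i)) = ψ v (ψ u i) := by rw [← hv', hui]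
    by_cases h5 : ψ u i = i
    · by_cases h6 : ψ v i = i
      · rw [h6, h5, h6]
      · rw [h5]
        rcases h3 i (ψ v i) _ hi hvi huvi (Ne.symm h6) with h7 | h7
        · exact absurd ((ψ u).injective (h7.trans h5.symm)) h6
        · exact h7
    · by_cases h6 : ψ v i = i
      · rw [h6]
        rcases h3 i (ψ u i) _ hi hui hvui (Ne.symm h5) with h7 | h7
        · exact absurd ((ψ v).injective (h7.trans h6.symm)) h5
        · exact h7.symm
      · have h8 : ψ v i = ψ u i := by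
          rcases h3 i (ψ u i) _ hi hui hvi (Ne.symm h5) with h7 | h7
          · exact absurd h7 h6
          · exact h7
        have h9 : ψ u (ψ u i) = i := by
          have huui : ψ z (ψ u (ψ u i)) = ψ u (ψ u i) := by rw [← hu', hui]
          rcases h3 i (ψ u i) _ hi hui huui (Ne.symm h5) with h7 | h7
          · exact h7
          · exact absurd ((ψ u).injective h7) h5
        have h10 : ψ v (ψ v i) = i := by
          have hvvi : ψ z (ψ v (ψ v i)) = ψ v (ψ v i) := by rw [← hv', hvi]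
          rcases h3 i (ψ v i) _ hi hvi hvvi (Ne.symm h6) with h7 | h7
          · exact h7
          · exact absurd ((ψ v).injective h7) h6
        rw [← h8, h10, h8, h9]
  · rcases mem_bl.1 (hu i hi) with h5 | h5 <;> rcases mem_bl.1 (hv i hi) with h6 | h6
    · rw [h5, h6, h5]
    · rw [h5, h6, hu', h5]
    · rw [h5, h6, h5, hv', h6]
    · rw [h5, h6, hu', hv', h5, h6]

/-- `Cx` is impossible if a 2-central involution has at least 5 two-cycles and at most two fixed points -/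
theorem Rep.dead_of_large (h : Rep ψ) {S : Sylow 2 G} {Q M : Subgroup G} (c : Cx S Q M) {z : G}
    (hz : z ∈ centralizer ((S : Subgroup G) : Set G)) (hz1 : z ≠ 1) (hz2 : z ^ 2 = 1)
    (hF : (Finset.univ.filter fun i => ψ z i = i).card ≤ 2)
    (hs : 10 ≤ (Finset.univ.filter fun i => ψ z i ≠ i).card) : False := by
  apply c.not_comm_Q
  intro a ha b hb
  have ha' := c.Q_le_core hz hz1 ha
  have hb' := c.Q_le_core hz hz1 hb
  exact h.comm_of_blocks hF (H229.pCoreOf_le _ _ ha') (H229.pCoreOf_le _ _ hb') (h.pres_blocks hz2 hs ha')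
    (h.pres_blocks hz2 hs hb')

end Cfsg.Agent.H282.LT
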