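import Cfsg.Agent.H282.LT.AltC

/-!
# S2927, alternating socle: the groups `A₉`, `S₉`, `A₁₀`
-/

set_option autoImplicit false
set_option linter.unusedSectionVars false
open Cfsg Subgroup
open Cfsg.Agent.H229 Cfsg.Agent.H230 Cfsg.Agent.H252.LT

namespace Cfsg.Agent.H282.LT

open Equiv Equiv.Perm
open scoped commutatorElement Pointwise

variable {G : Type*} [Group G] {n : ℕ} {ψ : G →* Perm (Fin n)}

theorem card_supp_conj (ψ : G →* Perm (Fin n)) (m z : G) :
    (ψ (m * z * m⁻¹)).support.card = (ψ z).support.card := by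
  rw [map_mul, map_mul, map_inv]
  exact card_support_conj

section

variable [Finite G] {S : Sylow 2 G} {Q M : Subgroup G}

theorem conj_mem_Y (c : Cx S Q M) {m z : G} (hm : m ∈ M) (hz : z ∈ largestPReducedOf 2 M) :
    m * z * m⁻¹ ∈ largestPReducedOf 2 M := le_norm_iff.1 c.M_norm_Y m hm z hz

theorem V_le_cent (c : Cx S Q M) {z : G} (hz : z ∈ c.V) : c.V ≤ centralizer ({z} : Set G) := by
  intro v hv
  rw [mem_centralizer_singleton_iff]
  exact ea_comm c.V_ea hv hz

/-- exactly one fixed point (`n = 9`) -/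
theorem Rep.dead_one (h : Rep ψ) (c : Cx S Q M) {z : G}
    (hz : z ∈ centralizer ((S : Subgroup G) : Set G)) (hz1 : z ≠ 1) (hz2 : z ^ 2 = 1)
    (hF : (Finset.univ.filter fun i => ψ z i = i).card = 1) : False := by
  classical
  obtain ⟨f, hf⟩ := Finset.card_eq_one.1 hF
  have hF' : ∀ i, ψ z i = i ↔ i = f := by
    intro i
    have : i ∈ Finset.univ.filter (fun i => ψ z i = i) ↔ i ∈ ({f} : Finset (Fin n)) := by rw [hf]
    simpa using this
  have hzY := c.center_mem_Y hz hz2
  have hzV := c.Y_le_V hzY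
  have hVc := V_le_cent c hzV
  have hVn := (c.cent_le_norm_Q hz hz1).trans c.norm_V
  have hcz : ∀ y ∈ c.V, ∀ l, ψ y (ψ z l) = ψ z (ψ y l) := fun y hy l =>
    congrArg (fun f : Perm (Fin n) => f l) (h.mem_cent.1 (hVc hy))
  have hyf : ∀ y ∈ c.V, ψ y f = f := by
    intro y hy
    rw [← hF', ← hcz y hy, (hF' f).2 rfl]
  obtain ⟨x, hxY, hx1, hxb⟩ := c.bad
  have hxV := c.Y_le_V hxY
  have hx2 := c.Y_ea.2 x hxY
  have hcard : (ψ x).support.card ≠ (ψ z).support.card := fun h1 =>
    hxb (h.chP_of_card hx2 hz2 hz1 h1 (c.chP_cent hz hz1))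
  obtain ⟨q, hq⟩ := h.ne_one hx1
  have hq2 : ψ z q ≠ q := by
    intro h1
    rw [hF'] at h1
    rw [h1] at hq
    exact hq (hyf x hxV)
  obtain ⟨p, hp1, hp2⟩ : ∃ p, ψ z p ≠ p ∧ ψ x p = p := by
    by_contra hcon
    push Not at hcon
    apply hcard
    congr 1
    ext i
    rw [mem_support, mem_support]
    refine ⟨fun h1 h2 => ?_, fun h1 => hcon i h1⟩
    rw [hF'] at h2
    rw [h2] at h1
    exact h1 (hyf x hxV)
  have hbase := h.base hz2 c.V_ea hVc hVn hxV hp1 hp2 hq2 hq
  apply c.not_M_le hz hz2 hz1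
  intro m hm
  have hzm := conj_mem_Y c hm hzY
  have hzmV := c.Y_le_V hzm
  have hsub : (ψ (m * z * m⁻¹)).support ⊆ (ψ z).support := by
    intro i hi
    rw [mem_support] at hi ⊢
    intro h2
    rw [hF'] at h2
    rw [h2] at hi
    exact hi (hyf _ hzmV)
  have heq := Finset.eq_of_subset_of_card_le hsub (card_supp_conj ψ m z).ge
  have hzz : m * z * m⁻¹ = z := by
    apply h.inj
    ext i
    congr 1
    by_cases hi : ψ z i = i
    · rw [hi]
      rw [hF'] at hi
      rw [hi]
      exact hyf _ hzmV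
    · rcases mem_bl.1 (hbase _ hzmV i hi) with h1 | h1
      · have h2 : i ∈ (ψ (m * z * m⁻¹)).support := by rw [heq, mem_support]; exact hi
        rw [mem_support] at h2
        exact absurd h1 h2
      · exact h1
  rw [mem_centralizer_singleton_iff]
  calc m * z = (m * z * m⁻¹) * m := by group
    _ = z * m := by rw [hzz]

end

/-! ### the subgroup `C_G(ϖ)`, `ϖ` a product of three transpositions in degree 10 -/

/-- fixed-point-free involutions on the fixed points of `ϖ` -/
def A1 (ψ : G →* Perm (Fin n)) (ϖ : Perm (Fin n)) : Set G :=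
  {g | ψ g * ψ g = 1 ∧ (∀ i, ϖ i ≠ i → ψ g i = i) ∧ ∀ i, ϖ i = i → ψ g i ≠ i}

/-- the base group of `ϖ` -/
def A2 (ψ : G →* Perm (Fin n)) (ϖ : Perm (Fin n)) : Set G :=
  {g | (∀ i, ϖ i = i → ψ g i = i) ∧ ∀ i, ϖ i ≠ i → ψ g i ∈ bl ϖ i}

/-- the centraliser of `ϖ` -/
def LL (ψ : G →* Perm (Fin n)) (ϖ : Perm (Fin n)) : Subgroup G := (centralizer ({ϖ} : Set (Perm (Fin n)))).comap ψ

theorem mem_LL {ϖ : Perm (Fin n)} {g : G} : g ∈ LL ψ ϖ ↔ ψ g * ϖ = ϖ * ψ g := by
  unfold LL
  rw [mem_comap, mem_centralizer_singleton_iff]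

theorem conj_A {ϖ : Perm (Fin n)} {l g : G} (hl : l ∈ LL ψ ϖ) (hg : g ∈ A1 ψ ϖ ∪ A2 ψ ϖ) :
    l * g * l⁻¹ ∈ A1 ψ ϖ ∪ A2 ψ ϖ := by
  rw [mem_LL] at hl
  have h0 : ∀ i, ψ l ((ψ l)⁻¹ i) = i := fun i => by rw [← Perm.mul_apply, mul_inv_cancel]; rfl
  have h0' : ∀ i, ψ l (ϖ i) = ϖ (ψ l i) := fun i => congrArg (fun f : Perm (Fin n) => f i) hl
  have h1 : ∀ i, ϖ ((ψ l)⁻¹ i) = (ψ l)⁻¹ i ↔ ϖ i = i := by
    intro i
    constructor
    · intro h2
      have h3 := h0' ((ψ l)⁻¹ i)
      rw [h2, h0] at h3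
      exact h3.symm
    · intro h2
      apply (ψ l).injective
      rw [h0', h0, h2]
  have hv : ∀ i, ψ (l * g * l⁻¹) i = ψ l (ψ g ((ψ l)⁻¹ i)) := by
    intro i
    rw [map_mul, map_mul, map_inv]; rfl
  rcases hg with ⟨g1, g2, g3⟩ | ⟨g1, g2⟩
  · left
    refine ⟨?_, fun i hi => ?_, fun i hi => ?_⟩
    · rw [map_mul, map_mul, map_inv]
      calc ψ l * ψ g * (ψ l)⁻¹ * (ψ l * ψ g * (ψ l)⁻¹) = ψ l * (ψ g * ψ g) * (ψ l)⁻¹ := by group
        _ = 1 := by rw [g1]; group
    · rw [hv, g2 _ (fun h2 => hi ((h1 i).1 h2)), h0]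
    · rw [hv]
      intro h2
      apply g3 _ ((h1 i).2 hi)
      apply (ψ l).injective
      rw [h2, h0]
  · right
    refine ⟨fun i hi => ?_, fun i hi => ?_⟩
    · rw [hv, g1 _ ((h1 i).2 hi), h0]
    · rw [hv]
      have h2 := smul_mem_bl hl (g2 _ (fun h2 => hi ((h1 i).1 h2)))
      rwa [h0] at h2

theorem A_le_LL {ϖ : Perm (Fin n)} (hϖ : ϖ * ϖ = 1) {g : G} (hg : g ∈ A1 ψ ϖ ∪ A2 ψ ϖ) : g ∈ LL ψ ϖ := by
  have hww : ∀ l, ϖ (ϖ l) = l := fun l => congrArg (fun f : Perm (Fin n) => f l) hϖ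
  have hmw : ∀ l, ϖ l ≠ l → ϖ (ϖ l) ≠ ϖ l := fun l hl h => hl (ϖ.injective h)
  rw [mem_LL]
  ext i
  congr 1
  rw [Perm.mul_apply, Perm.mul_apply]
  rcases hg with ⟨g1, g2, g3⟩ | ⟨g1, g2⟩
  · by_cases hi : ϖ i = i
    · rw [hi]
      by_contra h1
      have h2 : ϖ (ψ g i) ≠ ψ g i := fun h => h1 h.symm
      have h3 := g2 _ h2
      exact g3 i hi ((ψ g).injective h3)
    · rw [g2 i hi, g2 _ (hmw i hi)]
  · by_cases hi : ϖ i = i
    · rw [hi, g1 i hi, hi]
    · rcases mem_bl.1 (g2 i hi) with h1 | h1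
      · rw [h1]
        rcases mem_bl.1 (g2 _ (hmw i hi)) with h2 | h2
        · exact h2
        · rw [hww] at h2
          exact absurd ((ψ g).injective (h2.trans h1.symm)) hi
      · rw [h1, hww]
        rcases mem_bl.1 (g2 _ (hmw i hi)) with h2 | h2
        · exact absurd ((ψ g).injective (h2.trans h1.symm)) hi
        · rw [h2, hww]

theorem comm_A (h : Rep ψ) {ϖ : Perm (Fin n)} (hϖ : ϖ * ϖ = 1) (hF : (Finset.univ.filter fun i => ϖ i = i).card = 4)
    {g k : G} (hg : g ∈ A1 ψ ϖ ∪ A2 ψ ϖ) (hk : k ∈ A1 ψ ϖ ∪ A2 ψ ϖ) : g * k = k * g := by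
  classical
  have hww : ∀ l, ϖ (ϖ l) = l := fun l => congrArg (fun f : Perm (Fin n) => f l) hϖ
  have memF : ∀ i, i ∈ (Finset.univ.filter fun i => ϖ i = i) ↔ ϖ i = i := fun i => by rw [Finset.mem_filter]; simp
  have hc : ∀ g ∈ A1 ψ ϖ ∪ A2 ψ ϖ, ∀ i, ψ g (ϖ i) = ϖ (ψ g i) := fun g hg i =>
    congrArg (fun f : Perm (Fin n) => f i) (mem_LL.1 (A_le_LL hϖ hg))
  have hm : ∀ g ∈ A1 ψ ϖ ∪ A2 ψ ϖ, ∀ i, ϖ i ≠ i → ϖ (ψ g i) ≠ ψ g i := by
    intro g hg i hi h1
    rw [← hc g hg] at h1
    exact hi ((ψ g).injective h1)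
  have hf : ∀ g ∈ A1 ψ ϖ ∪ A2 ψ ϖ, ∀ i, ϖ i = i → ϖ (ψ g i) = ψ g i := by
    intro g hg i hi
    rw [← hc g hg, hi]
  apply h.inj
  rw [map_mul, map_mul]
  ext i
  congr 1
  rw [Perm.mul_apply, Perm.mul_apply]
  have hg' := hg
  have hk' := hk
  rcases hg with ⟨g1, g2, g3⟩ | ⟨g1, g2⟩ <;> rcases hk with ⟨k1, k2, k3⟩ | ⟨k1, k2⟩
  · by_cases hi : ϖ i = i
    · have gg : ∀ l, ψ g (ψ g l) = l := fun l => congrArg (fun f : Perm (Fin n) => f l) g1
      have kk : ∀ l, ψ k (ψ k l) = l := fun l => congrArg (fun f : Perm (Fin n) => f l) k1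
      by_cases hgk : ψ g i = ψ k i
      · rw [← hgk, gg, hgk, kk]
      · by_contra hne
        have s1 := hf g hg' i hi
        have s2 := hf k hk' i hi
        have s3 := hf g hg' _ s2
        have s4 := hf k hk' _ s1
        have hsub : ({i, ψ g i, ψ k i, ψ g (ψ k i), ψ k (ψ g i)} : Finset (Fin n)) ⊆
            Finset.univ.filter fun i => ϖ i = i := by
          intro x hx
          simp only [Finset.mem_insert, Finset.mem_singleton] at hx
          rw [memF]
          rcases hx with rfl | rfl | rfl | rfl | rfl <;> assumption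
        have hle := Finset.card_le_card hsub
        rw [hF, Finset.card_insert_of_notMem, Finset.card_insert_of_notMem, Finset.card_insert_of_notMem,
          Finset.card_insert_of_notMem, Finset.card_singleton] at hle
        · omega
        · rw [Finset.mem_singleton]; exact hne
        · simp only [Finset.mem_insert, Finset.mem_singleton, not_or]
          refine ⟨(g3 _ s2).symm, fun h5 => g3 i hi ((ψ k).injective h5).symm⟩
        · simp only [Finset.mem_insert, Finset.mem_singleton, not_or]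
          exact ⟨hgk, fun h5 => k3 i hi ((ψ g).injective h5).symm, (k3 _ s1).symm⟩
        · simp only [Finset.mem_insert, Finset.mem_singleton, not_or]
          refine ⟨(g3 i hi).symm, (k3 i hi).symm, fun h5 => hgk ?_, fun h5 => hgk ?_⟩
          · have := congrArg (ψ g) h5
            rwa [gg] at this
          · have := congrArg (ψ k) h5
            rw [kk] at this
            exact this.symm
    · rw [k2 i hi, g2 i hi, k2 i hi]
  · by_cases hi : ϖ i = i
    · rw [k1 i hi, k1 _ (hf g hg' i hi)]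
    · rw [g2 i hi, g2 _ (hm k hk' i hi)]
  · by_cases hi : ϖ i = i
    · rw [g1 i hi, g1 _ (hf k hk' i hi)]
    · rw [k2 i hi, k2 _ (hm g hg' i hi)]
  · by_cases hi : ϖ i = i
    · rw [k1 i hi, g1 i hi, k1 i hi]
    · rcases mem_bl.1 (g2 i hi) with h5 | h5 <;> rcases mem_bl.1 (k2 i hi) with h6 | h6
      · rw [h5, h6, h5]
      · rw [h5, h6, hc g hg', h5]
      · rw [h5, h6, h5, hc k hk', h6]
      · rw [h5, h6, hc g hg', hc k hk', h5, h6]

theorem Rep.chP_LL [Finite G] (h : Rep ψ) {ϖ : Perm (Fin n)} (hϖ : ϖ * ϖ = 1)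
    (hF : (Finset.univ.filter fun i => ϖ i = i).card = 4) (hs : 5 ≤ (Finset.univ.filter fun i => ϖ i ≠ i).card) :
    ChP 2 (LL ψ ϖ) := by
  classical
  have hww : ∀ l, ϖ (ϖ l) = l := fun l => congrArg (fun f : Perm (Fin n) => f l) hϖ
  have memF : ∀ i, i ∈ (Finset.univ.filter fun i => ϖ i = i) ↔ ϖ i = i := fun i => by rw [Finset.mem_filter]; simp
  have memX : ∀ i, i ∈ (Finset.univ.filter fun i => ϖ i ≠ i) ↔ ϖ i ≠ i := fun i => by rw [Finset.mem_filter]; simp
  set N : Subgroup G := LL ψ ϖ ⊓ centralizer (A1 ψ ϖ ∪ A2 ψ ϖ) with hN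
  have hNn : LL ψ ϖ ≤ normalizer (N : Set G) := by
    rw [le_norm_iff]
    intro l hl g hg
    refine mem_inf.2 ⟨mul_mem (mul_mem hl hg.1) (inv_mem hl), ?_⟩
    rw [mem_centralizer_iff]
    intro a ha
    have h1 := conj_A (inv_mem hl) ha
    rw [inv_inv] at h1
    have h2 := (mem_centralizer_iff.1 hg.2) _ h1
    calc a * (l * g * l⁻¹) = l * (l⁻¹ * a * l * g) * l⁻¹ := by group
      _ = l * (g * (l⁻¹ * a * l)) * l⁻¹ := by rw [h2]
      _ = l * g * l⁻¹ * a := by group
  have hsq : ∀ g ∈ N, g ^ 2 = 1 := by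
    intro g hg
    have hgL := mem_LL.1 hg.1
    have hgc : ∀ i, ψ g (ϖ i) = ϖ (ψ g i) := fun i => congrArg (fun f : Perm (Fin n) => f i) hgL
    have hcom : ∀ a ∈ A1 ψ ϖ ∪ A2 ψ ϖ, ∀ i, ψ g (ψ a i) = ψ a (ψ g i) := by
      intro a ha i
      have h1 := (mem_centralizer_iff.1 hg.2) a ha
      have h2 := congrArg (fun f : G => ψ f i) h1
      simp only [map_mul, Perm.mul_apply] at h2
      exact h2.symm
    apply h.inj
    rw [map_pow, pow_two, map_one]
    ext i
    congr 1
    rw [Perm.mul_apply, Perm.one_apply]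
    by_cases hgi : ψ g i = i
    · rw [hgi, hgi]
    by_cases hi : ϖ i = i
    · -- a fixed point of `ϖ`
      have hj : ϖ (ψ g i) = ψ g i := by rw [← hgc, hi]
      have hs2 : ({i, ψ g i} : Finset (Fin n)).card ≤ 2 := Finset.card_le_two
      obtain ⟨k, hkF, hk⟩ := Finset.exists_mem_notMem_of_card_lt_card (s := ({i, ψ g i} : Finset (Fin n)))
        (t := Finset.univ.filter fun i => ϖ i = i) (by omega)
      have hs3 : ({i, ψ g i, k} : Finset (Fin n)).card ≤ 3 := Finset.card_le_three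
      obtain ⟨l, hlF, hl⟩ := Finset.exists_mem_notMem_of_card_lt_card (s := ({i, ψ g i, k} : Finset (Fin n)))
        (t := Finset.univ.filter fun i => ϖ i = i) (by omega)
      simp only [Finset.mem_insert, Finset.mem_singleton, not_or] at hk hl
      rw [memF] at hkF hlF
      have hij : i ≠ ψ g i := Ne.symm hgi
      have hd := swap_disj (a := i) (b := ψ g i) (c := k) (d := l) (Ne.symm hk.1) (Ne.symm hl.1) (Ne.symm hk.2)
        (Ne.symm hl.2.1)
      have hsg : sign (swap i (ψ g i) * swap k l) = 1 := by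
        rw [map_mul, sign_swap hij, sign_swap (Ne.symm hl.2.2)]; rfl
      obtain ⟨a, ha⟩ := h.ev _ hsg
      have hall : ∀ x, ϖ x = x → x = i ∨ x = ψ g i ∨ x = k ∨ x = l := by
        have h5 : ({i, ψ g i, k, l} : Finset (Fin n)) = Finset.univ.filter fun i => ϖ i = i := by
          apply Finset.eq_of_subset_of_card_le
          · intro x hx
            simp only [Finset.mem_insert, Finset.mem_singleton] at hx
            rw [memF]
            rcases hx with rfl | rfl | rfl | rfl <;> assumption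
          · rw [hF, Finset.card_insert_of_notMem, Finset.card_insert_of_notMem, Finset.card_insert_of_notMem,
              Finset.card_singleton]
            · rw [Finset.mem_singleton]; exact Ne.symm hl.2.2
            · simp only [Finset.mem_insert, Finset.mem_singleton, not_or]
              exact ⟨Ne.symm hk.2, Ne.symm hl.2.1⟩
            · simp only [Finset.mem_insert, Finset.mem_singleton, not_or]
              exact ⟨hij, Ne.symm hk.1, Ne.symm hl.1⟩
        intro x hx
        have : x ∈ ({i, ψ g i, k, l} : Finset (Fin n)) := by rw [h5, memF]; exact hx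
        simpa only [Finset.mem_insert, Finset.mem_singleton] using this
      have v1 : ψ a i = ψ g i := by
        rw [ha, Perm.mul_apply, swap_apply_of_ne_of_ne (Ne.symm hk.1) (Ne.symm hl.1), swap_apply_left]
      have v2 : ψ a (ψ g i) = i := by
        rw [ha, Perm.mul_apply, swap_apply_of_ne_of_ne (Ne.symm hk.2) (Ne.symm hl.2.1), swap_apply_right]
      have v3 : ψ a k = l := by
        rw [ha, Perm.mul_apply, swap_apply_left, swap_apply_of_ne_of_ne hl.1 hl.2.1]
      have v4 : ψ a l = k := by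
        rw [ha, Perm.mul_apply, swap_apply_right, swap_apply_of_ne_of_ne hk.1 hk.2]
      have haA : a ∈ A1 ψ ϖ := by
        refine ⟨?_, fun x hx => ?_, fun x hx => ?_⟩
        · rw [ha]
          calc swap i (ψ g i) * swap k l * (swap i (ψ g i) * swap k l)
              = swap i (ψ g i) * (swap k l * swap i (ψ g i)) * swap k l := by group
            _ = swap i (ψ g i) * (swap i (ψ g i) * swap k l) * swap k l := by rw [hd.commute.eq]
            _ = (swap i (ψ g i) * swap i (ψ g i)) * (swap k l * swap k l) := by group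
            _ = 1 := by rw [swap_mul_self, swap_mul_self, one_mul]
        · have i1 : x ≠ i := by rintro rfl; exact hx hi
          have i2 : x ≠ ψ g i := by rintro rfl; exact hx hj
          have i3 : x ≠ k := by rintro rfl; exact hx hkF
          have i4 : x ≠ l := by rintro rfl; exact hx hlF
          rw [ha, Perm.mul_apply, swap_apply_of_ne_of_ne i3 i4, swap_apply_of_ne_of_ne i1 i2]
        · rcases hall x hx with rfl | rfl | rfl | rfl
          · rw [v1]; exact hgi
          · rw [v2]; exact hij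
          · rw [v3]; exact hl.2.2
          · rw [v4]; exact Ne.symm hl.2.2
      have h6 := hcom a (Or.inl haA) i
      rw [v1, v2] at h6
      exact h6
    · -- a moved point of `ϖ`
      have hgb : ψ g i ∈ bl ϖ i := by
        by_contra hcon
        have hj := comm_moved hgL hi
        have c2 : ∀ x, (bl ϖ x).card ≤ 2 := card_bl_le _
        obtain ⟨k, hkX, hk⟩ := Finset.exists_mem_notMem_of_card_lt_card (s := bl ϖ i ∪ bl ϖ (ψ g i))
          (t := Finset.univ.filter fun i => ϖ i ≠ i) (by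
            have := Finset.card_union_le (bl ϖ i) (bl ϖ (ψ g i))
            have := c2 i
            have := c2 (ψ g i)
            omega)
        rw [memX] at hkX
        rw [Finset.mem_union, not_or, mem_bl, mem_bl, not_or, not_or] at hk
        rw [mem_bl, not_or] at hcon
        have e1 : i ≠ k := Ne.symm hk.1.1
        have e2 : i ≠ ϖ k := fun h5 => hk.1.2 (by rw [h5, hww])
        have e3 : ϖ i ≠ k := Ne.symm hk.1.2
        have e4 : ϖ i ≠ ϖ k := fun h5 => e1 (ϖ.injective h5)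
        have hsg : sign (swap i (ϖ i) * swap k (ϖ k)) = 1 := by
          rw [map_mul, sign_swap (Ne.symm hi), sign_swap (Ne.symm hkX)]; rfl
        obtain ⟨a, ha⟩ := h.ev _ hsg
        have haA : a ∈ A2 ψ ϖ := by
          refine ⟨fun x hx => ?_, fun x hx => ?_⟩
          · have i1 : x ≠ i := by rintro rfl; exact hi hx
            have i2 : x ≠ ϖ i := by rintro rfl; exact hi (ϖ.injective hx)
            have i3 : x ≠ k := by rintro rfl; exact hkX hx
            have i4 : x ≠ ϖ k := by rintro rfl; exact hkX (ϖ.injective hx)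
            rw [ha, Perm.mul_apply, swap_apply_of_ne_of_ne i3 i4, swap_apply_of_ne_of_ne i1 i2]
          · rw [ha, Perm.mul_apply, mem_bl]
            by_cases i3 : x = k
            · rw [i3, swap_apply_left, swap_apply_of_ne_of_ne (Ne.symm e2) (Ne.symm e4)]; exact Or.inr rfl
            by_cases i4 : x = ϖ k
            · rw [i4, swap_apply_right, swap_apply_of_ne_of_ne (Ne.symm e1) (Ne.symm e3), hww]; exact Or.inr rfl
            rw [swap_apply_of_ne_of_ne i3 i4]
            by_cases i1 : x = i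
            · rw [i1, swap_apply_left]; exact Or.inr rfl
            by_cases i2 : x = ϖ i
            · rw [i2, swap_apply_right, hww]; exact Or.inr rfl
            rw [swap_apply_of_ne_of_ne i1 i2]; exact Or.inl rfl
        have h6 := hcom a (Or.inr haA) i
        have v1 : ψ a i = ϖ i := by
          rw [ha, Perm.mul_apply, swap_apply_of_ne_of_ne e1 e2, swap_apply_left]
        have v2 : ψ a (ψ g i) = ψ g i := by
          have k1 : ψ g i ≠ k := fun h7 => hk.2.1 h7.symm
          have k2 : ψ g i ≠ ϖ k := fun h7 => hk.2.2 (by rw [h7, hww])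
          rw [ha, Perm.mul_apply, swap_apply_of_ne_of_ne k1 k2, swap_apply_of_ne_of_ne hcon.1 hcon.2]
        rw [v1, v2, hgc] at h6
        exact hj h6
      rcases mem_bl.1 hgb with h5 | h5
      · exact absurd h5 hgi
      · rw [h5, hgc, h5, hww]
  have hNL : N ≤ LL ψ ϖ := inf_le_left
  have hNp : IsPGroup 2 ↥N := by
    intro g
    refine ⟨1, Subtype.ext ?_⟩
    rw [pow_one]
    exact hsq g g.2
  have hNO : N ≤ pCoreOf 2 (LL ψ ϖ) := le_pCoreOf hNL hNn hNp
  intro g hg
  apply hNO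
  refine mem_inf.2 ⟨hg.1, ?_⟩
  rw [mem_centralizer_iff]
  intro a ha
  have haN : a ∈ N := by
    refine mem_inf.2 ⟨A_le_LL hϖ ha, ?_⟩
    rw [mem_centralizer_iff]
    intro b hb
    exact comm_A h hϖ hF hb ha
  exact (mem_centralizer_iff.1 hg.2) a (hNO haN)

end Cfsg.Agent.H282.LT
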